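import Groth.Prelude.Def_DeRham
import Mathlib.RingTheory.Kaehler.Basic
import Mathlib.LinearAlgebra.ExteriorPower.Basis
import Mathlib.Order.Hom.PowersetCard

/-!
# Top forms on coordinate strata are in the image of the Čech differential
-/

set_option autoImplicit false
set_option maxSynthPendingDepth 3

open exteriorPower Set

namespace Groth.Agent.Lib.Cartier45.CechTop

universe u

variable {k : Type u} [Field k] {A : Type u} [CommRing A] [Algebra k A] {d n : ℕ}

/-- The ideal of a stratum. -/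
abbrev str (t : Fin d → A) (e : Fin n ↪ Fin d) (I : Finset (Fin n)) : Ideal A :=
  ⨆ i ∈ I, Ideal.span {t (e i)}

variable (t : Fin d → A) (e : Fin n ↪ Fin d)

theorem exists_eq_gen (hspan : Submodule.span A (Set.range fun i => KaehlerDifferential.D k A (t i)) = ⊤)
    (J : Finset (Fin n)) (m : ℕ) (f : Fin m → Fin d)
    (hf : ∀ i, i ∉ J.map e → ∃ l, f l = i)
    (x : ↥(⋀[A ⧸ str t e J]^m (Ω[(A ⧸ str t e J)⁄k]))) :
    ∃ a : A, x = DeRham.gen (KaehlerDifferential.D k (A ⧸ str t e J)) m
      (Ideal.Quotient.mk (str t e J) a) (fun l => Ideal.Quotient.mk (str t e J) (t (f l))) := by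
  classical
  let v : Fin m → Ω[(A ⧸ str t e J)⁄k] :=
    fun l => KaehlerDifferential.D k (A ⧸ str t e J) (Ideal.Quotient.mk (str t e J) (t (f l)))
  have hsurj : Function.Surjective (algebraMap A (A ⧸ str t e J)) := Ideal.Quotient.mk_surjective
  have hv : Submodule.span (A ⧸ str t e J) (Set.range v) = ⊤ := by
    rw [eq_top_iff]
    rintro y -
    obtain ⟨z, rfl⟩ := KaehlerDifferential.map_surjective_of_surjective k k A (A ⧸ str t e J) hsurj y
    have hz : z ∈ Submodule.span A (Set.range fun i => KaehlerDifferential.D k A (t i)) :=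
      hspan ▸ Submodule.mem_top
    induction hz using Submodule.span_induction with
    | mem z hz =>
      obtain ⟨i, rfl⟩ := hz
      rw [KaehlerDifferential.map_D]
      by_cases hi : i ∈ J.map e
      · obtain ⟨j, hj, rfl⟩ := Finset.mem_map.1 hi
        have : algebraMap A (A ⧸ str t e J) (t (e j)) = 0 := Ideal.Quotient.eq_zero_iff_mem.2
          (le_iSup₂ (f := fun i (_ : i ∈ J) => Ideal.span {t (e i)}) j hj
            (Ideal.mem_span_singleton_self _))
        rw [this, map_zero]
        exact Submodule.zero_mem _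
      · obtain ⟨l, rfl⟩ := hf i hi
        exact Submodule.subset_span ⟨l, rfl⟩
    | zero => simp
    | add a b _ _ ha hb => rw [map_add]; exact Submodule.add_mem _ ha hb
    | smul c a _ ha =>
      rw [map_smul, ← IsScalarTower.algebraMap_smul (A ⧸ str t e J) c]
      exact Submodule.smul_mem _ _ ha
  have htop := ιMulti_family_span_of_span (A ⧸ str t e J) (n := m) hv
  have hx : x ∈ Submodule.span (A ⧸ str t e J) {ιMulti (A ⧸ str t e J) m v} := by
    refine Submodule.span_mono ?_ (htop ▸ Submodule.mem_top : x ∈ _)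
    rintro _ ⟨s, rfl⟩
    have hs : (powersetCard.ofFinEmbEquiv.symm s : Fin m ↪o Fin m) = (OrderIso.refl _).toOrderEmbedding := by
      refine OrderEmbedding.range_inj.1 ?_
      rw [(Finite.injective_iff_surjective.1 (RelEmbedding.injective _)).range_eq,
        (Finite.injective_iff_surjective.1 (RelEmbedding.injective _)).range_eq]
    rw [ιMulti_family, hs]
    exact Set.mem_singleton _
  obtain ⟨a', ha'⟩ := Submodule.mem_span_singleton.1 hx
  obtain ⟨a, rfl⟩ := Ideal.Quotient.mk_surjective a'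
  exact ⟨a, ha'.symm⟩

variable (ψ : ∀ (I J : Finset (Fin n)) (p : ℕ),
  ↥(⋀[A ⧸ str t e I]^p (Ω[(A ⧸ str t e I)⁄k])) →+ ↥(⋀[A ⧸ str t e J]^p (Ω[(A ⧸ str t e J)⁄k])))

theorem exists_lift (hspan : Submodule.span A (Set.range fun i => KaehlerDifferential.D k A (t i)) = ⊤)
    (hψ : ∀ (I J : Finset (Fin n)) (h : I ⊆ J),
      DeRham.IsCxMap (KaehlerDifferential.D k (A ⧸ str t e I)) (KaehlerDifferential.D k (A ⧸ str t e J))
        (Ideal.Quotient.factor (biSup_mono h)) (ψ I J))
    (m : ℕ) (g : ∀ J : Finset (Fin n), ↥(⋀[A ⧸ str t e J]^m (Ω[(A ⧸ str t e J)⁄k]))) :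
    ∃ ω : ∀ I : Finset (Fin n), ↥(⋀[A ⧸ str t e I]^m (Ω[(A ⧸ str t e I)⁄k])),
      ∀ J : Finset (Fin n), J.Nonempty → J.card + m = d →
        (∑ j ∈ J.attach,
          ((-1 : ℤ) ^ (J.filter (fun i => i < j.1)).card) • ψ (J.erase j.1) J m (ω (J.erase j.1))) =
          g J := by
  classical
  by_cases hm : m ≤ d
  swap
  · exact ⟨fun _ => 0, fun J _ h => absurd h (by omega)⟩
  have hf : ∀ J : Finset (Fin n), ∃ f : Fin m → Fin d, (J.card + m = d →
      (∀ i, i ∉ J.map e → ∃ l, f l = i) ∧ ∀ i, i ∉ J → ∃ l, f l = e i) := by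
    intro J
    by_cases h : J.card + m = d
    · have hc : (Finset.univ \ J.map e).card = m := by
        rw [Finset.card_sdiff_of_subset (Finset.subset_univ _), Finset.card_univ, Fintype.card_fin,
          Finset.card_map]
        omega
      refine ⟨(Finset.univ \ J.map e).orderEmbOfFin hc, fun _ => ?_⟩
      have hkey : ∀ i, i ∉ J.map e → ∃ l, (Finset.univ \ J.map e).orderEmbOfFin hc l = i := by
        intro i hi
        have : i ∈ Set.range ((Finset.univ \ J.map e).orderEmbOfFin hc) := by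
          rw [Finset.range_orderEmbOfFin]; simpa using hi
        exact this
      exact ⟨hkey, fun i hi => hkey (e i) (by simpa using hi)⟩
    · exact ⟨fun l => Fin.castLE hm l, fun h' => absurd h' h⟩
  choose f hf using hf
  have hg : ∀ J : Finset (Fin n), ∃ a : A, J.card + m = d → g J =
      DeRham.gen (KaehlerDifferential.D k (A ⧸ str t e J)) m
        (Ideal.Quotient.mk (str t e J) a) (fun l => Ideal.Quotient.mk (str t e J) (t (f J l))) := by
    intro J
    by_cases h : J.card + m = d
    · obtain ⟨a, ha⟩ := exists_eq_gen t e hspan J m (f J) (hf J h).1 (g J)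
      exact ⟨a, fun _ => ha⟩
    · exact ⟨0, fun h' => absurd h' h⟩
  choose a ha using hg
  let ω : ∀ I : Finset (Fin n), ↥(⋀[A ⧸ str t e I]^m (Ω[(A ⧸ str t e I)⁄k])) := fun I =>
    ∑ j ∈ Finset.univ.filter (fun j => j ∉ I ∧ ∀ i ∈ I, j < i),
      DeRham.gen (KaehlerDifferential.D k (A ⧸ str t e I)) m
        (Ideal.Quotient.mk (str t e I) (a (insert j I)))
        (fun l => Ideal.Quotient.mk (str t e I) (t (f (insert j I) l)))
  refine ⟨ω, fun J hne hcard => ?_⟩
  let j0 := J.min' hne
  have key : ∀ j : Fin n, ∀ hj : j ∈ J,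
      ψ (J.erase j) J m (ω (J.erase j)) = if j = j0 then g J else 0 := by
    intro j hj
    simp only [ω, map_sum]
    have hsub := Finset.erase_subset j J
    have hterm : ∀ i, ψ (J.erase j) J m
        (DeRham.gen (KaehlerDifferential.D k (A ⧸ str t e (J.erase j))) m
          (Ideal.Quotient.mk (str t e (J.erase j)) (a (insert i (J.erase j))))
          (fun l => Ideal.Quotient.mk (str t e (J.erase j)) (t (f (insert i (J.erase j)) l)))) =
        DeRham.gen (KaehlerDifferential.D k (A ⧸ str t e J)) m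
          (Ideal.Quotient.mk (str t e J) (a (insert i (J.erase j))))
          (fun l => Ideal.Quotient.mk (str t e J) (t (f (insert i (J.erase j)) l))) := fun i => by
      rw [hψ _ _ hsub]; simp [Ideal.Quotient.factor_mk]
    simp only [hterm]
    rw [Finset.sum_eq_ite j]
    · have hins : insert j (J.erase j) = J := Finset.insert_erase hj
      rw [hins, ← ha J hcard]
      by_cases h : j = j0
      · rw [if_pos h, if_pos]
        subst h
        refine Finset.mem_filter.2 ⟨Finset.mem_univ _, Finset.notMem_erase _ _, fun i hi => ?_⟩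
        obtain ⟨hne', hi⟩ := Finset.mem_erase.1 hi
        exact lt_of_le_of_ne (Finset.min'_le _ _ hi) (Ne.symm hne')
      · rw [if_neg h, if_neg]
        intro hmem
        have := (Finset.mem_filter.1 hmem).2.2 j0
          (Finset.mem_erase.2 ⟨Ne.symm h, Finset.min'_mem _ _⟩)
        exact absurd (Finset.min'_le _ _ hj) (not_le.2 this)
    · intro i hi hij
      obtain ⟨hi', -⟩ := (Finset.mem_filter.1 hi).2
      have hcard' : (insert i (J.erase j)).card + m = d := by
        rw [Finset.card_insert_of_notMem hi', Finset.card_erase_add_one hj]; exact hcard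
      obtain ⟨l, hl⟩ := (hf _ hcard').2 j (by simp [Ne.symm hij])
      unfold DeRham.gen
      refine smul_eq_zero_of_right _ ?_
      refine (ιMulti _ m).map_coord_zero l ?_
      have h0 : Ideal.Quotient.mk (str t e J) (t (f (insert i (J.erase j)) l)) = 0 := by
        rw [hl]
        exact Ideal.Quotient.eq_zero_iff_mem.2
          (le_iSup₂ (f := fun i (_ : i ∈ J) => Ideal.span {t (e i)}) j hj
            (Ideal.mem_span_singleton_self _))
      simp only [h0, map_zero]
  rw [Finset.sum_congr rfl fun j _ => by rw [key j.1 j.2],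
    Finset.sum_eq_single ⟨j0, Finset.min'_mem _ _⟩]
  · rw [if_pos rfl]
    have h0 : J.filter (fun i => i < j0) = ∅ :=
      Finset.filter_eq_empty_iff.2 fun i hi => not_lt.2 (Finset.min'_le _ _ hi)
    simp [h0]
  · intro j _ hj
    rw [if_neg fun h => hj (Subtype.ext h), smul_zero]
  · exact fun h => absurd (Finset.mem_attach _ _) h

theorem exists_eta (hspan : Submodule.span A (Set.range fun i => KaehlerDifferential.D k A (t i)) = ⊤)
    (hψ : ∀ (I J : Finset (Fin n)) (h : I ⊆ J),
      DeRham.IsCxMap (KaehlerDifferential.D k (A ⧸ str t e I)) (KaehlerDifferential.D k (A ⧸ str t e J))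
        (Ideal.Quotient.factor (biSup_mono h)) (ψ I J))
    (dq : ∀ (I : Finset (Fin n)) (p : ℕ), ↥(⋀[A ⧸ str t e I]^p (Ω[(A ⧸ str t e I)⁄k])) →ₗ[k]
      ↥(⋀[A ⧸ str t e I]^(p + 1) (Ω[(A ⧸ str t e I)⁄k])))
    (ω : ∀ (J : Finset (Fin n)) (q : ℕ), ↥(⋀[A ⧸ str t e J]^q (Ω[(A ⧸ str t e J)⁄k]))) :
    ∃ η : ∀ (I : Finset (Fin n)) (q : ℕ), ↥(⋀[A ⧸ str t e I]^q (Ω[(A ⧸ str t e I)⁄k])),
      (∀ (J : Finset (Fin n)) (q : ℕ), J.Nonempty → J.card + (q + 1) = d →
        ω J (q + 1) =
          (∑ j ∈ J.attach, ((-1 : ℤ) ^ (J.filter (fun i => i < j.1)).card) •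
            ψ (J.erase j.1) J (q + 1) (η (J.erase j.1) (q + 1))) +
            ((-1 : ℤ) ^ J.card) • dq J q (η J q)) ∧
      (∀ J : Finset (Fin n), J.Nonempty → J.card = d →
        ω J 0 = ∑ j ∈ J.attach, ((-1 : ℤ) ^ (J.filter (fun i => i < j.1)).card) •
          ψ (J.erase j.1) J 0 (η (J.erase j.1) 0)) := by
  choose lift hlift using exists_lift t e ψ hspan hψ
  let η' : ∀ q : ℕ, ∀ I : Finset (Fin n), ↥(⋀[A ⧸ str t e I]^q (Ω[(A ⧸ str t e I)⁄k])) := fun q =>
    Nat.rec (motive := fun q => ∀ I : Finset (Fin n), ↥(⋀[A ⧸ str t e I]^q (Ω[(A ⧸ str t e I)⁄k])))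
      (lift 0 fun J => ω J 0)
      (fun q prev => lift (q + 1) fun J => ω J (q + 1) - ((-1 : ℤ) ^ J.card) • dq J q (prev J)) q
  refine ⟨fun I q => η' q I, fun J q hne hc => ?_, fun J hne hc => ?_⟩
  · rw [← sub_eq_iff_eq_add]
    exact (hlift (q + 1) (fun J => ω J (q + 1) - ((-1 : ℤ) ^ J.card) • dq J q (η' q J)) J hne hc).symm
  · exact (hlift 0 (fun J => ω J 0) J hne (by omega)).symm

end Groth.Agent.Lib.Cartier45.CechTop
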