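import Groth.Agent.Lib.Cartier45.Main
import Groth.Prelude.Def_DeRham
import Groth.Prelude.Def_LogDiff
import Mathlib.RingTheory.Kaehler.Polynomial

/-!
# The logarithmic de Rham complex of affine space in characteristic `p`
-/

set_option autoImplicit false
set_option maxSynthPendingDepth 3

open exteriorPower MvPolynomial Module Set

namespace Groth.Agent.Lib.Cartier45

universe u

variable {n r : ℕ} {R : Type u} [CommRing R] {L : Type u} [AddCommGroup L]
  [Module (MvPolynomial (Fin n) R) L] [Module R L] [IsScalarTower R (MvPolynomial (Fin n) R) L]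

local notation "P" => MvPolynomial (Fin n) R

/-- The generators of the log forms. -/
noncomputable def gen (hr : r ≤ n)
    (ι : (Ω[MvPolynomial (Fin n) R⁄R]) →ₗ[MvPolynomial (Fin n) R] L) (dl : Fin r → L) (ν : Fin n) : L :=
  if h : (ν : ℕ) < r then dl ⟨ν, h⟩ else ι (KaehlerDifferential.D R P (X ν))

/-- The factor between a differential and a generator. -/
noncomputable def cf (r : ℕ) (ν : Fin n) : MvPolynomial (Fin n) R :=
  if (ν : ℕ) < r then X ν else 1

section

variable (hr : r ≤ n) (ι : (Ω[MvPolynomial (Fin n) R⁄R]) →ₗ[MvPolynomial (Fin n) R] L)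
  (dl : Fin r → L)
  (hL : LogDiff.IsLog (KaehlerDifferential.D R (MvPolynomial (Fin n) R))
    (fun i : Fin r => (MvPolynomial.X (Fin.castLE hr i) : MvPolynomial (Fin n) R)) ι dl)

include hL

theorem ι_D_X (ν : Fin n) :
    ι (KaehlerDifferential.D R P (X ν)) = (cf r ν : P) • gen hr ι dl ν := by
  unfold cf gen
  by_cases h : (ν : ℕ) < r
  · rw [if_pos h, dif_pos h]
    exact (hL.1 ⟨ν, h⟩).symm
  · rw [if_neg h, dif_neg h, one_smul]

theorem ι_D (g : P) :
    ι (KaehlerDifferential.D R P g) = ∑ ν, (pderiv ν g * cf r ν) • gen hr ι dl ν := by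
  conv_lhs => rw [← (KaehlerDifferential.mvPolynomialBasis R (Fin n)).sum_repr
    (KaehlerDifferential.D R P g)]
  rw [map_sum]
  refine Finset.sum_congr rfl fun ν _ => ?_
  rw [map_smul, KaehlerDifferential.mvPolynomialBasis_repr_apply, mul_smul, ← ι_D_X hr ι dl hL ν]
  congr 2
  apply (KaehlerDifferential.mvPolynomialBasis R (Fin n)).repr.injective
  rw [Basis.repr_self, KaehlerDifferential.mvPolynomialBasis_repr_D_X]

theorem span_gen : Submodule.span P (Set.range (gen hr ι dl)) = ⊤ := by
  rw [eq_top_iff, ← hL.2.1, Submodule.span_le]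
  rintro x (⟨ω, rfl⟩ | ⟨i, rfl⟩)
  · rw [SetLike.mem_coe, ← (KaehlerDifferential.mvPolynomialBasis R (Fin n)).sum_repr ω, map_sum]
    refine Submodule.sum_mem _ fun ν _ => ?_
    rw [map_smul]
    refine Submodule.smul_mem _ _ ?_
    have : (KaehlerDifferential.mvPolynomialBasis R (Fin n)) ν =
        KaehlerDifferential.D R P (X ν) := by
      apply (KaehlerDifferential.mvPolynomialBasis R (Fin n)).repr.injective
      rw [Basis.repr_self, KaehlerDifferential.mvPolynomialBasis_repr_D_X]
    rw [this, ι_D_X hr ι dl hL ν]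
    exact Submodule.smul_mem _ _ (Submodule.subset_span ⟨ν, rfl⟩)
  · refine Submodule.subset_span ⟨Fin.castLE hr i, ?_⟩
    unfold gen
    rw [dif_pos (show ((Fin.castLE hr i : Fin n) : ℕ) < r from i.2)]
    rfl

theorem linearIndependent_gen : LinearIndependent P (gen hr ι dl) := by
  classical
  rw [Fintype.linearIndependent_iff]
  intro g hg
  let T : P := ∏ i : Fin r, X (Fin.castLE hr i)
  let q : Fin n → P := fun ν =>
    if h : (ν : ℕ) < r then ∏ i ∈ Finset.univ.erase (⟨ν, h⟩ : Fin r), X (Fin.castLE hr i) else T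
  have hq : ∀ ν, T • gen hr ι dl ν = q ν • ι (KaehlerDifferential.D R P (X ν)) := by
    intro ν
    rw [ι_D_X hr ι dl hL ν, smul_smul]
    congr 1
    unfold cf
    by_cases h : (ν : ℕ) < r
    · simp only [q, T, dif_pos h, if_pos h]
      rw [← Finset.prod_erase_mul _ _ (Finset.mem_univ (⟨ν, h⟩ : Fin r))]
      rfl
    · simp only [q, dif_neg h, if_neg h, mul_one]
  have h0 : ι (∑ ν, (g ν * q ν) • KaehlerDifferential.D R P (X ν)) = 0 := by
    have h := congrArg (fun x => T • x) hg
    simp only [smul_zero, Finset.smul_sum] at h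
    rw [map_sum, ← h]
    refine Finset.sum_congr rfl fun ν _ => ?_
    rw [map_smul, mul_smul, ← hq, smul_comm]
  obtain ⟨N, hN⟩ := (hL.2.2.2 _).1 h0
  intro ν
  have hc := congrArg (fun x => (KaehlerDifferential.mvPolynomialBasis R (Fin n)).repr x ν) hN
  simp only [map_smul, map_sum, map_zero, Finsupp.smul_apply, Finsupp.finsetSum_apply,
    KaehlerDifferential.mvPolynomialBasis_repr_D_X, Finsupp.coe_zero, Pi.zero_apply] at hc
  rw [Finset.sum_eq_single ν (fun μ _ hμ => by
      rw [Finsupp.single_eq_of_ne hμ.symm, smul_zero])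
    (fun h => absurd (Finset.mem_univ _) h), Finsupp.single_eq_same, smul_eq_mul, smul_eq_mul,
    mul_one] at hc
  have hT : IsRegular T := IsRegular.prod fun i _ => isRegular_X
  have hqν : IsRegular (q ν) := by
    by_cases h : (ν : ℕ) < r
    · simp only [q, dif_pos h]
      exact IsRegular.prod fun i _ => isRegular_X
    · simp only [q, dif_neg h]
      exact hT
  have := (hT.pow N).left (hc.trans (mul_zero _).symm)
  exact hqν.right (this.trans (zero_mul _).symm)

end

variable (b : Basis (Fin n) (MvPolynomial (Fin n) R) L)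

omit [Module R L] [IsScalarTower R (MvPolynomial (Fin n) R) L] in
theorem mulL_sum_smul (q : ℕ) (c : Fin n → P) (y : ↥(⋀[P]^q L)) :
    mulL q (∑ ν, c ν • b ν) y = ∑ ν, c ν • mulL q (b ν) y := by
  apply Subtype.ext
  simp [coe_mulL, map_sum, Finset.sum_mul]

omit [Module R L] [IsScalarTower R (MvPolynomial (Fin n) R) L] in
theorem monomial_e1_mul_cf (ν : Fin n) :
    monomial (e1 r ν) (1 : R) * cf r ν = (X ν : P) := by
  unfold e1 cf
  by_cases h : (ν : ℕ) < r
  · rw [if_neg (by omega), if_pos h, monomial_zero', map_one, one_mul]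
  · rw [if_pos (by omega), if_neg h, mul_one]
    rfl

theorem map_phi_d (d : ∀ q : ℕ, ↥(⋀[P]^q L) →ₗ[R] ↥(⋀[P]^(q + 1) L))
    (hd : ∀ (q : ℕ) (g : P) (f : Fin q → Fin n),
      d q (g • eta b q f) = mulL q (∑ ν, (pderiv ν g * cf r ν) • b ν) (eta b q f))
    (q : ℕ) (x : ↥(⋀[P]^q L)) :
    map (q + 1) (phi b r) (d q x) = dP b q (map q (phi b r) x) := by
  classical
  have h : ((map (q + 1) (phi b r)).restrictScalars R).comp (d q) =
      (dP b q).comp ((map q (phi b r)).restrictScalars R) := by
    refine linearMap_ext_monomial b fun m s => ?_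
    simp only [LinearMap.comp_apply, LinearMap.coe_restrictScalars]
    rw [map_monomial_basis, exteriorPower_eq_eta, hd, map_mulL, map_eta, map_sum]
    simp only [map_smul, phi, Basis.constr_basis, smul_smul]
    rw [dP, op_monomial b _ _ (eta_mem_constSpan b q _), LinearMap.sum_apply]
    have e : ∀ ν : Fin n, (pderiv ν (monomial m (1 : R)) * cf r ν * monomial (e1 r ν) (1 : R)) •
        b ν = ((m ν • monomial m (1 : R) : P)) • b ν := fun ν => by
      rw [← X_mul_pderiv_monomial, ← monomial_e1_mul_cf (r := r) ν]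
      congr 1
      ring
    rw [Finset.sum_congr rfl fun ν _ => e ν, mulL_sum_smul]
    rw [Finset.smul_sum, Finset.smul_sum]
    refine Finset.sum_congr rfl fun ν _ => ?_
    rw [LinearMap.smul_apply, smul_smul, ← Nat.cast_smul_eq_nsmul R (m ν), mul_smul_comm,
      monomial_mul, one_mul, smul_assoc, mulL_eta, add_comm (wt r _) m,
      smul_comm (monomial (m + _) (1 : R)) (((m + _) ν : ℕ) : R)]
    by_cases hν : ν ∈ Set.range (powersetCard.ofFinEmbEquiv.symm s)
    · obtain ⟨k, hk⟩ := hν
      have h0 : eta b (q + 1) (Fin.cons ν (powersetCard.ofFinEmbEquiv.symm s)) = 0 := by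
        refine (ιMulti P (q + 1)).map_eq_zero_of_eq _ (i := 0) (j := k.succ) ?_ (Fin.succ_ne_zero k).symm
        simp [hk]
      simp [h0]
    · rw [Finsupp.add_apply, wt_eq_zero r _ hν, add_zero]
  exact LinearMap.congr_fun h x

theorem main (p : ℕ) [Fact p.Prime] [CharP R p]
    (d : ∀ q : ℕ, ↥(⋀[P]^q L) →ₗ[R] ↥(⋀[P]^(q + 1) L))
    (hd : ∀ (q : ℕ) (g : P) (f : Fin q → Fin n),
      d q (g • eta b q f) = mulL q (∑ ν, (pderiv ν g * cf r ν) • b ν) (eta b q f))
    (a : ℕ) :
    (∀ ω, ω ∈ DeRham.cocycles d a ↔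
      ∃ (g : powersetCard (Fin n) a → P) (η : ↥(⋀[P]^a L)),
        η ∈ DeRham.coboundaries d a ∧ ω = η + comb b r p a g) ∧
    (∀ g : powersetCard (Fin n) a → P, comb b r p a g ∈ DeRham.coboundaries d a → g = 0) := by
  classical
  have hA := map_phi_d b d hd
  have hinj := fun q => map_phi_injective b r q
  have hcomb : ∀ g, dP b a (map a (phi b r) (comb b r p a g)) = 0 := fun g => by
    rw [map_comb, map_sum]
    exact Finset.sum_eq_zero fun s _ => (piP_expand b p a _ s).2
  have hpic : ∀ g, piP b p a (map a (phi b r) (comb b r p a g)) =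
      map a (phi b r) (comb b r p a g) := fun g => by
    rw [map_comb, map_sum]
    exact Finset.sum_congr rfl fun s _ => (piP_expand b p a _ s).1
  constructor
  · intro ω
    rw [DeRham.cocycles, LinearMap.mem_ker]
    constructor
    · intro hω
      obtain ⟨g, hg⟩ := piP_map_mem b r p a ω
      have hz : dP b a (map a (phi b r) ω) = 0 := by rw [← hA, hω, map_zero]
      cases a with
      | zero =>
        refine ⟨g, 0, Submodule.zero_mem _, hinj 0 ?_⟩
        rw [zero_add, ← hg]
        have := hom_zero b p (map 0 (phi b r) ω)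
        rw [hz, map_zero] at this
        exact sub_eq_zero.1 this.symm
      | succ a =>
        obtain ⟨y, hy⟩ := hP_map_mem b r p a ω
        refine ⟨g, d a y, ⟨y, rfl⟩, hinj (a + 1) ?_⟩
        rw [map_add, ← hg, hA, ← hy]
        have := hom_succ b p a (map (a + 1) (phi b r) ω)
        rw [hz, map_zero, add_zero] at this
        rw [this, sub_add_cancel]
    · rintro ⟨g, η, hη, rfl⟩
      apply hinj (a + 1)
      rw [hA, map_zero, map_add, map_add, hcomb, add_zero]
      cases a with
      | zero =>
        rw [show η = 0 from (Submodule.mem_bot R).1 hη, map_zero, map_zero]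
      | succ a =>
        obtain ⟨y, rfl⟩ := hη
        rw [hA]
        have h1 := hom_succ b p a (dP b a (map a (phi b r) y))
        exact dP_dP b a _
  · intro g hg
    have h0 : map a (phi b r) (comb b r p a g) = 0 := by
      rw [← hpic g]
      cases a with
      | zero => rw [show comb b r p 0 g = 0 from (Submodule.mem_bot R).1 hg, map_zero, map_zero]
      | succ a =>
        obtain ⟨y, hy⟩ := hg
        rw [← hy, hA, piP_dP]
    rw [map_comb] at h0
    funext s
    have := congrArg (fun x => (b.exteriorPower a).repr x s) h0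
    simp only [map_sum, map_smul, Basis.repr_self, Finsupp.finsetSum_apply, Finsupp.smul_apply,
      map_zero, Finsupp.coe_zero, Pi.zero_apply] at this
    rw [Finset.sum_eq_single s (fun t _ ht => by rw [Finsupp.single_eq_of_ne ht.symm, smul_zero])
      (fun h => absurd (Finset.mem_univ _) h), Finsupp.single_eq_same, smul_eq_mul, mul_one,
      expand_eq_zero (Fact.out : p.Prime).pos] at this
    ext k
    simpa [coeff_mul_monomial] using
      congrArg (coeff (k + wt r (powersetCard.ofFinEmbEquiv.symm s))) this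

end Groth.Agent.Lib.Cartier45
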