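import Groth.Agent.Lib.Cartier45.Ops
import Mathlib.Algebra.MvPolynomial.PDeriv
import Mathlib.Algebra.MvPolynomial.Expand
import Mathlib.Algebra.CharP.Lemmas
import Mathlib.Data.ZMod.Units

/-!
# Cohomology of the logarithmic de Rham complex of affine space in characteristic `p`
-/

set_option autoImplicit false
set_option maxSynthPendingDepth 3

open exteriorPower MvPolynomial Module Set

namespace Groth.Agent.Lib.Cartier45

universe u

variable {n : ℕ} {R : Type u} [CommRing R] {L : Type u} [AddCommGroup L]
  [Module (MvPolynomial (Fin n) R) L] [Module R L] [IsScalarTower R (MvPolynomial (Fin n) R) L]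

local notation "P" => MvPolynomial (Fin n) R

variable (b : Basis (Fin n) (MvPolynomial (Fin n) R) L) (r : ℕ) (p : ℕ)

theorem isUnit_natCast [Fact p.Prime] [CharP R p] {a : ℕ} (h : ¬ p ∣ a) : IsUnit (a : R) := by
  have hc : Nat.Coprime a p := (Nat.Prime.coprime_iff_not_dvd Fact.out).2 h |>.symm
  have := (ZMod.unitOfCoprime a hc).isUnit.map (ZMod.castHom dvd_rfl R)
  rwa [ZMod.coe_unitOfCoprime, map_natCast] at this

/-- The exponent of the weight of one coordinate. -/
noncomputable def e1 (ν : Fin n) : Fin n →₀ ℕ := if r ≤ (ν : ℕ) then Finsupp.single ν 1 else 0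

/-- The weight of a wedge of basis vectors. -/
noncomputable def wt {q : ℕ} (f : Fin q → Fin n) : Fin n →₀ ℕ := ∑ k, e1 r (f k)

theorem wt_eq_sum_image {q : ℕ} {f : Fin q → Fin n} (hf : Function.Injective f) :
    wt r f = ∑ ν ∈ Finset.univ.image f, e1 r ν := by
  rw [wt, Finset.sum_image fun a _ c _ h => hf h]

theorem wt_mono {q q' : ℕ} {g : Fin q → Fin n} {f : Fin q' → Fin n} (hg : Function.Injective g)
    (hf : Function.Injective f) (h : Set.range g ⊆ Set.range f) : wt r g ≤ wt r f := by
  rw [wt_eq_sum_image r hg, wt_eq_sum_image r hf]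
  refine Finset.sum_le_sum_of_subset fun ν hν => ?_
  obtain ⟨k, -, rfl⟩ := Finset.mem_image.1 hν
  obtain ⟨j, hj⟩ := h ⟨k, rfl⟩
  exact Finset.mem_image.2 ⟨j, Finset.mem_univ _, hj⟩

theorem wt_apply {q : ℕ} (f : Fin q → Fin n) (ν : Fin n) :
    wt r f ν = ∑ k, e1 r (f k) ν := by
  rw [wt, Finsupp.finsetSum_apply]

theorem wt_le_one {q : ℕ} (s : powersetCard (Fin n) q) (ν : Fin n) :
    wt r (powersetCard.ofFinEmbEquiv.symm s) ν ≤ 1 := by
  classical
  rw [wt_eq_sum_image r (powersetCard.ofFinEmbEquiv.symm s).injective, Finsupp.finsetSum_apply]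
  refine (Finset.sum_le_sum_of_subset (Finset.subset_univ _)).trans ?_
  rw [Finset.sum_eq_single ν]
  · unfold e1; split_ifs <;> simp
  · intro μ _ hμ
    unfold e1; split_ifs <;> simp [hμ]
  · exact fun h => absurd (Finset.mem_univ _) h

theorem wt_eq_zero {q : ℕ} (f : Fin q → Fin n) {ν : Fin n} (h : ν ∉ Set.range f) :
    wt r f ν = 0 := by
  rw [wt_apply]
  refine Finset.sum_eq_zero fun k _ => ?_
  have hk : f k ≠ ν := fun e => h ⟨k, e⟩
  unfold e1; split_ifs <;> simp [hk.symm]

/-- The weight map. -/
noncomputable def phi : L →ₗ[P] L := b.constr P fun ν => monomial (e1 r ν) (1 : R) • b ν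

theorem map_eta (q : ℕ) (f : Fin q → Fin n) :
    map q (phi b r) (eta b q f) = monomial (wt r f) (1 : R) • eta b q f := by
  rw [eta, map_apply_ιMulti]
  have h : (phi b r) ∘ (b ∘ f) = fun k => monomial (e1 r (f k)) (1 : R) • (b ∘ f) k := by
    funext k; simp [phi]
  rw [h, AlternatingMap.map_smul_univ, wt, monomial_sum_one]

theorem map_monomial_basis (q : ℕ) (m : Fin n →₀ ℕ) (s : powersetCard (Fin n) q) :
    map q (phi b r) (monomial m (1 : R) • b.exteriorPower q s) =
      monomial (m + wt r (powersetCard.ofFinEmbEquiv.symm s)) (1 : R) • b.exteriorPower q s := by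
  rw [map_smul, exteriorPower_eq_eta, map_eta, smul_smul, monomial_mul, one_mul]

theorem map_phi_injective (q : ℕ) : Function.Injective (map q (phi b r)) := by
  classical
  have key : ∀ (x : ↥(⋀[P]^q L)) (t : powersetCard (Fin n) q),
      (b.exteriorPower q).repr (map q (phi b r) x) t =
        monomial (wt r (powersetCard.ofFinEmbEquiv.symm t)) (1 : R) * (b.exteriorPower q).repr x t := by
    intro x t
    have h : ((b.exteriorPower q).coord t).comp (map q (phi b r)) =
        monomial (wt r (powersetCard.ofFinEmbEquiv.symm t)) (1 : R) • (b.exteriorPower q).coord t := by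
      refine (b.exteriorPower q).ext fun s => ?_
      have hs := map_monomial_basis b r q 0 s
      rw [zero_add, monomial_zero', map_one, one_smul] at hs
      rw [LinearMap.comp_apply, hs, LinearMap.smul_apply, map_smul, Basis.coord_apply,
        Basis.repr_self, smul_eq_mul, smul_eq_mul]
      rcases eq_or_ne s t with rfl | hst
      · rfl
      · rw [Finsupp.single_eq_of_ne hst.symm, mul_zero, mul_zero]
    exact LinearMap.congr_fun h x
  intro x y h
  refine (b.exteriorPower q).repr.injective (Finsupp.ext fun t => MvPolynomial.ext _ _ fun m => ?_)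
  have := congrArg (fun z => coeff (wt r (powersetCard.ofFinEmbEquiv.symm t) + m) z)
    ((key x t).symm.trans ((congrArg (fun z => (b.exteriorPower q).repr z t) h).trans (key y t)))
  simpa [coeff_monomial_mul] using this

/-- The differential in monomial coordinates. -/
noncomputable def dP (q : ℕ) : ↥(⋀[P]^q L) →ₗ[R] ↥(⋀[P]^(q + 1) L) :=
  op b fun E => ∑ ν, (E ν : R) • mulL q (b ν)

open Classical in
/-- The projection on exponents divisible by `p`. -/
noncomputable def piP (q : ℕ) : ↥(⋀[P]^q L) →ₗ[R] ↥(⋀[P]^q L) :=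
  op b fun E => if ∀ ν, p ∣ E ν then LinearMap.id else 0

open Classical in
/-- The homotopy. -/
noncomputable def hP (q : ℕ) : ↥(⋀[P]^(q + 1) L) →ₗ[R] ↥(⋀[P]^q L) :=
  op b fun E => if h : ∃ ν, ¬ p ∣ E ν then Ring.inverse (E h.choose : R) • con q (b.coord h.choose)
    else 0

/-- Wedges of basis vectors with indices in a given set. -/
noncomputable def spanOn (q : ℕ) (T : Set (Fin n)) : Submodule R ↥(⋀[P]^q L) :=
  Submodule.span R {x | ∃ g : Fin q → Fin n, Set.range g ⊆ T ∧ eta b q g = x}

theorem spanOn_le (q : ℕ) (T : Set (Fin n)) : spanOn b q T ≤ constSpan b q := by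
  rw [spanOn, Submodule.span_le]
  rintro _ ⟨g, -, rfl⟩
  exact eta_mem_constSpan b q g

theorem eta_mem_spanOn {q : ℕ} {T : Set (Fin n)} (g : Fin q → Fin n) (hg : Set.range g ⊆ T) :
    eta b q g ∈ spanOn b q T := Submodule.subset_span ⟨g, hg, rfl⟩

theorem mulL_eta (q : ℕ) (ν : Fin n) (f : Fin q → Fin n) :
    mulL q (b ν) (eta b q f) = eta b (q + 1) (Fin.cons ν f) := by
  rw [eta, eta, mulL_ιMulti, Fin.comp_cons]

theorem mulL_mem_spanOn (q : ℕ) (ν : Fin n) (T : Set (Fin n)) (hν : ν ∈ T) {x : ↥(⋀[P]^q L)}
    (hx : x ∈ spanOn b q T) : mulL q (b ν) x ∈ spanOn b (q + 1) T := by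
  induction hx using Submodule.span_induction with
  | mem x hx =>
    obtain ⟨g, hg, rfl⟩ := hx
    refine Submodule.subset_span ⟨Fin.cons ν g, ?_, (mulL_eta b q ν g).symm⟩
    rw [Fin.range_cons]
    exact Set.insert_subset hν hg
  | zero => simp
  | add x y _ _ hx hy => rw [map_add]; exact Submodule.add_mem _ hx hy
  | smul c x _ hx => rw [LinearMap.map_smul_of_tower]; exact Submodule.smul_mem _ _ hx

theorem coord_smul_mem (q : ℕ) (S : Submodule R ↥(⋀[P]^q L)) (ν μ : Fin n) {x : ↥(⋀[P]^q L)}
    (hx : x ∈ S) : b.coord ν (b μ) • x ∈ S := by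
  classical
  rw [Basis.coord_apply, Basis.repr_self, Finsupp.single_apply]
  split_ifs
  · rw [one_smul]; exact hx
  · rw [zero_smul]; exact S.zero_mem

theorem con_eta_mem (ν : Fin n) : ∀ (q : ℕ) (f : Fin (q + 1) → Fin n),
    con q (b.coord ν) (eta b (q + 1) f) ∈ spanOn b q (Set.range f)
  | 0, f => by
    rw [eta, con_ιMulti_one, Function.comp_apply]
    refine coord_smul_mem b 0 (spanOn b 0 _) ν (f 0) ?_
    convert eta_mem_spanOn b (T := Set.range f) (Fin.elim0 : Fin 0 → Fin n) (by simp) using 1
    rw [eta]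
    congr 1
    exact funext fun i => i.elim0
  | q + 1, f => by
    rw [eta, con_ιMulti_succ, Function.comp_apply]
    have ht : Matrix.vecTail (b ∘ f) = b ∘ Fin.tail f := rfl
    rw [ht]
    have hsub : Set.range (Fin.tail f) ⊆ Set.range f := by
      rintro _ ⟨i, rfl⟩
      exact ⟨i.succ, rfl⟩
    refine Submodule.sub_mem _
      (coord_smul_mem b _ (spanOn b (q + 1) (Set.range f)) ν (f 0) (eta_mem_spanOn b _ hsub))
      (mulL_mem_spanOn b q (f 0) (Set.range f) ⟨0, rfl⟩ ?_)
    refine Submodule.span_mono ?_ (con_eta_mem ν q (Fin.tail f))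
    rintro x ⟨g, hg, hgx⟩
    exact ⟨g, hg.trans hsub, hgx⟩

theorem basis_mem_constSpan (q : ℕ) (s : powersetCard (Fin n) q) :
    b.exteriorPower q s ∈ constSpan b q := Submodule.subset_span ⟨s, rfl⟩

theorem sum_mulL_mem (q : ℕ) (c : Fin n → R) (s : powersetCard (Fin n) q) :
    (∑ ν, c ν • mulL q (b ν) : ↥(⋀[P]^q L) →ₗ[P] ↥(⋀[P]^(q + 1) L)) (b.exteriorPower q s) ∈
      constSpan b (q + 1) := by
  rw [LinearMap.sum_apply]
  refine Submodule.sum_mem _ fun ν _ => ?_
  rw [LinearMap.smul_apply, exteriorPower_eq_eta, mulL_eta]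
  exact Submodule.smul_mem _ _ (eta_mem_constSpan b _ _)

theorem con_basis_mem (q : ℕ) (ν : Fin n) (s : powersetCard (Fin n) (q + 1)) :
    con q (b.coord ν) (b.exteriorPower (q + 1) s) ∈ constSpan b q := by
  rw [exteriorPower_eq_eta]
  exact spanOn_le b q _ (con_eta_mem b ν q _)

variable [Fact p.Prime] [CharP R p]

omit [Fact p.Prime] in
theorem natCast_eq_zero (E : Fin n →₀ ℕ) (h : ∀ ν, p ∣ E ν) (ν : Fin n) : (E ν : R) = 0 :=
  (CharP.cast_eq_zero_iff R p _).2 (h ν)

theorem hom_zero (z : ↥(⋀[P]^0 L)) : hP b p 0 (dP b 0 z) = z - piP b p 0 z := by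
  classical
  have h : (hP b p 0).comp (dP b 0) = LinearMap.id - piP b p 0 := by
    refine linearMap_ext_monomial b fun E s => ?_
    simp only [LinearMap.comp_apply, LinearMap.sub_apply, LinearMap.id_apply, hP, dP, piP]
    rw [op_monomial b _ E (basis_mem_constSpan b 0 s), op_monomial b _ E (sum_mulL_mem b 0 _ s),
      op_monomial b _ E (basis_mem_constSpan b 0 s)]
    by_cases h : ∃ ν, ¬ p ∣ E ν
    · rw [dif_pos h, if_neg (not_forall.2 h), LinearMap.zero_apply, smul_zero, sub_zero]
      congr 1
      have hu := h.choose_spec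
      simp only [LinearMap.smul_apply, LinearMap.sum_apply, map_sum, Finset.smul_sum,
        LinearMap.map_smul_of_tower, con_mulL_zero, smul_smul]
      rw [Finset.sum_eq_single h.choose]
      · rw [Basis.coord_apply, Basis.repr_self, Finsupp.single_eq_same, one_smul,
          Ring.inverse_mul_cancel _ (isUnit_natCast p hu), one_smul]
      · intro ν _ hν
        rw [Basis.coord_apply, Basis.repr_self, Finsupp.single_eq_of_ne hν.symm, zero_smul,
          smul_zero]
      · exact fun h' => absurd (Finset.mem_univ _) h'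
    · rw [dif_neg h, if_pos (by simpa using h), LinearMap.zero_apply, smul_zero,
        LinearMap.id_apply, sub_self]
  exact LinearMap.congr_fun h z

theorem hom_succ (q : ℕ) (z : ↥(⋀[P]^(q + 1) L)) :
    dP b q (hP b p q z) + hP b p (q + 1) (dP b (q + 1) z) = z - piP b p (q + 1) z := by
  classical
  have h : (dP b q).comp (hP b p q) + (hP b p (q + 1)).comp (dP b (q + 1)) =
      LinearMap.id - piP b p (q + 1) := by
    refine linearMap_ext_monomial b fun E s => ?_
    simp only [LinearMap.add_apply, LinearMap.comp_apply, LinearMap.sub_apply, LinearMap.id_apply,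
      hP, dP, piP]
    rw [op_monomial b _ E (basis_mem_constSpan b _ s), op_monomial b _ E (basis_mem_constSpan b _ s),
      op_monomial b _ E (sum_mulL_mem b _ _ s), op_monomial b _ E (basis_mem_constSpan b _ s)]
    by_cases h : ∃ ν, ¬ p ∣ E ν
    · rw [dif_pos h, dif_pos h]
      rw [LinearMap.smul_apply, op_monomial b _ E (Submodule.smul_mem _ _ (con_basis_mem b q _ s)),
        if_neg (not_forall.2 h), LinearMap.zero_apply, smul_zero, sub_zero, ← smul_add]
      congr 1
      have hu := h.choose_spec
      simp only [LinearMap.smul_apply, LinearMap.sum_apply, map_sum, Finset.smul_sum,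
        LinearMap.map_smul_of_tower, smul_smul, ← Finset.sum_add_distrib]
      rw [Finset.sum_eq_single h.choose]
      · rw [mul_comm (Ring.inverse (_ : R)), ← smul_add, mulL_con_add, Basis.coord_apply,
          Basis.repr_self, Finsupp.single_eq_same, one_smul,
          Ring.mul_inverse_cancel _ (isUnit_natCast p hu), one_smul]
      · intro ν _ hν
        rw [mul_comm (Ring.inverse (_ : R)), ← smul_add, mulL_con_add, Basis.coord_apply,
          Basis.repr_self, Finsupp.single_eq_of_ne hν.symm, zero_smul, smul_zero]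
      · exact fun h' => absurd (Finset.mem_univ _) h'
    · have h0 : ∀ ν, (E ν : R) = 0 := natCast_eq_zero p E (by simpa using h)
      rw [dif_neg h, dif_neg h, if_pos (by simpa using h)]
      simp [h0]
  exact LinearMap.congr_fun h z

omit [Fact p.Prime] in
theorem piP_dP (q : ℕ) (z : ↥(⋀[P]^q L)) : piP b p (q + 1) (dP b q z) = 0 := by
  classical
  have h : (piP b p (q + 1)).comp (dP b q) = 0 := by
    refine linearMap_ext_monomial b fun E s => ?_
    simp only [LinearMap.comp_apply, LinearMap.zero_apply, piP, dP]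
    rw [op_monomial b _ E (basis_mem_constSpan b _ s), op_monomial b _ E (sum_mulL_mem b _ _ s)]
    by_cases h : ∀ ν, p ∣ E ν
    · simp [natCast_eq_zero p E h]
    · rw [if_neg h, LinearMap.zero_apply, smul_zero]
  exact LinearMap.congr_fun h z

omit [Fact p.Prime] in
theorem piP_expand (q : ℕ) (g : P) (s : powersetCard (Fin n) q) :
    piP b p q (expand p g • b.exteriorPower q s) = expand p g • b.exteriorPower q s ∧
      dP b q (expand p g • b.exteriorPower q s) = 0 := by
  classical
  induction g using MvPolynomial.induction_on' with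
  | monomial m c =>
    have e : expand p (monomial m c) • b.exteriorPower q s =
        c • (monomial (p • m) (1 : R) • b.exteriorPower q s) := by
      rw [expand_monomial, ← smul_assoc, smul_monomial, smul_eq_mul, mul_one]
    have hdiv : ∀ ν, p ∣ (p • m) ν := fun ν => ⟨m ν, by simp⟩
    rw [e, LinearMap.map_smul (piP b p q), LinearMap.map_smul (dP b q), piP, dP, op_monomial b _ _ (basis_mem_constSpan b _ s),
      op_monomial b _ _ (basis_mem_constSpan b _ s), if_pos hdiv]
    simp [natCast_eq_zero (R := R) p _ hdiv]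
  | add g g' hg hg' =>
    rw [map_add, add_smul, map_add, map_add, hg.1, hg'.1, hg.2, hg'.2]
    simp

omit [Fact p.Prime] [CharP R p] in
theorem dP_dP (q : ℕ) (z : ↥(⋀[P]^q L)) : dP b (q + 1) (dP b q z) = 0 := by
  classical
  have h : (dP b (q + 1)).comp (dP b q) = 0 := by
    refine linearMap_ext_monomial b fun E s => ?_
    simp only [LinearMap.comp_apply, LinearMap.zero_apply, dP]
    rw [op_monomial b _ E (basis_mem_constSpan b _ s), op_monomial b _ E (sum_mulL_mem b _ _ s)]
    refine (smul_eq_zero_of_right _ ?_)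
    apply Subtype.ext
    have hsum : ∀ (k : ℕ) (y : ↥(⋀[P]^k L)),
        (((∑ ν, (E ν : R) • mulL k (b ν)) y : ↥(⋀[P]^(k + 1) L)) : ExteriorAlgebra P L) =
          ExteriorAlgebra.ι P (∑ ν, (E ν : R) • b ν) * (y : ExteriorAlgebra P L) := by
      intro k y
      simp only [LinearMap.sum_apply, LinearMap.smul_apply, AddSubmonoidClass.coe_finset_sum,
        Submodule.coe_smul_of_tower, coe_mulL, map_sum, LinearMap.map_smul_of_tower, Finset.sum_mul,
        smul_mul_assoc]
    rw [hsum, hsum, ← mul_assoc, ExteriorAlgebra.ι_sq_zero, zero_mul, Submodule.coe_zero]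
  exact LinearMap.congr_fun h z

/-- The combinations of the classes. -/
noncomputable def comb (q : ℕ) (g : powersetCard (Fin n) q → P) : ↥(⋀[P]^q L) :=
  ∑ s, expand p (g s) •
    (monomial ((p - 1) • wt r (powersetCard.ofFinEmbEquiv.symm s)) (1 : R) • b.exteriorPower q s)

omit [CharP R p] in
theorem map_comb (q : ℕ) (g : powersetCard (Fin n) q → P) :
    map q (phi b r) (comb b r p q g) = ∑ s,
      expand p (g s * monomial (wt r (powersetCard.ofFinEmbEquiv.symm s)) (1 : R)) •
        b.exteriorPower q s := by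
  rw [comb, map_sum]
  refine Finset.sum_congr rfl fun s _ => ?_
  rw [map_smul, map_monomial_basis, smul_smul, map_mul, expand_monomial]
  refine congrArg (fun z => (expand p (g s) * monomial z (1 : R)) • b.exteriorPower q s) ?_
  ext ν
  have := (Fact.out : p.Prime).one_le
  simp only [Finsupp.add_apply, Finsupp.smul_apply, smul_eq_mul]
  conv_rhs => rw [show p = (p - 1) + 1 by omega]
  ring

theorem piP_map_mem (q : ℕ) (x : ↥(⋀[P]^q L)) :
    ∃ g, piP b p q (map q (phi b r) x) = map q (phi b r) (comb b r p q g) := by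
  classical
  induction ((MvPolynomial.basisMonomials (Fin n) R).smulTower (b.exteriorPower q)).mem_span x
    using Submodule.span_induction with
  | mem x hx =>
    obtain ⟨⟨m, s⟩, rfl⟩ := hx
    rw [Basis.smulTower_apply, coe_basisMonomials, map_monomial_basis, piP,
      op_monomial b _ _ (basis_mem_constSpan b _ s)]
    by_cases h : ∀ ν, p ∣ (m + wt r (powersetCard.ofFinEmbEquiv.symm s)) ν
    · refine ⟨Pi.single s (monomial ((m + wt r (powersetCard.ofFinEmbEquiv.symm s)).mapRange
        (· / p) (Nat.zero_div p) - wt r (powersetCard.ofFinEmbEquiv.symm s)) (1 : R)), ?_⟩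
      rw [if_pos h, LinearMap.id_apply, map_comb, Finset.sum_eq_single s]
      · rw [Pi.single_eq_same, monomial_mul, one_mul, expand_monomial]
        refine congrArg (fun z => monomial z (1 : R) • b.exteriorPower q s) ?_
        ext ν
        obtain ⟨k, hk⟩ := h ν
        simp only [Finsupp.add_apply] at hk
        have hp := (Fact.out : p.Prime).pos
        have hle : wt r (powersetCard.ofFinEmbEquiv.symm s) ν ≤ k := by
          have hw : wt r (powersetCard.ofFinEmbEquiv.symm s) ν ≤ 1 := wt_le_one r s ν
          rcases Nat.eq_zero_or_pos k with rfl | hk0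
          · omega
          · omega
        simp only [Finsupp.smul_apply, Finsupp.add_apply, Finsupp.tsub_apply,
          Finsupp.mapRange_apply, smul_eq_mul, hk, Nat.mul_div_cancel_left _ hp]
        rw [Nat.sub_add_cancel hle]
      · intro t _ ht
        rw [Pi.single_eq_of_ne ht, zero_mul, map_zero, zero_smul]
      · exact fun h' => absurd (Finset.mem_univ _) h'
    · refine ⟨0, ?_⟩
      rw [if_neg h, LinearMap.zero_apply, smul_zero, map_comb]
      simp
  | zero => exact ⟨0, by rw [map_zero, map_zero, map_comb]; simp⟩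
  | add x y _ _ hx hy =>
    obtain ⟨g, hg⟩ := hx
    obtain ⟨g', hg'⟩ := hy
    refine ⟨g + g', ?_⟩
    rw [map_add, map_add, hg, hg', map_comb, map_comb, map_comb, ← Finset.sum_add_distrib]
    simp [add_mul, add_smul]
  | smul c x _ hx =>
    obtain ⟨g, hg⟩ := hx
    refine ⟨c • g, ?_⟩
    rw [LinearMap.map_smul_of_tower, map_smul, hg, map_comb, map_comb, Finset.smul_sum]
    refine Finset.sum_congr rfl fun s _ => ?_
    rw [Pi.smul_apply, smul_mul_assoc, map_smul, smul_assoc]

theorem hP_map_mem (q : ℕ) (x : ↥(⋀[P]^(q + 1) L)) :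
    ∃ y, hP b p q (map (q + 1) (phi b r) x) = map q (phi b r) y := by
  classical
  induction ((MvPolynomial.basisMonomials (Fin n) R).smulTower (b.exteriorPower (q + 1))).mem_span x
    using Submodule.span_induction with
  | mem x hx =>
    obtain ⟨⟨m, s⟩, rfl⟩ := hx
    rw [Basis.smulTower_apply, coe_basisMonomials, map_monomial_basis, hP,
      op_monomial b _ _ (basis_mem_constSpan b _ s)]
    by_cases h : ∃ ν, ¬ p ∣ (m + wt r (powersetCard.ofFinEmbEquiv.symm s)) ν
    · rw [dif_pos h]
      have hmem : ∀ z ∈ spanOn b q (Set.range (powersetCard.ofFinEmbEquiv.symm s)),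
          ∃ y, monomial (m + wt r (powersetCard.ofFinEmbEquiv.symm s)) (1 : R) • z =
            map q (phi b r) y := by
        intro z hz
        induction hz using Submodule.span_induction with
        | mem z hz =>
          obtain ⟨g, hg, rfl⟩ := hz
          by_cases hgi : Function.Injective g
          · have hle : wt r g ≤ m + wt r (powersetCard.ofFinEmbEquiv.symm s) :=
              (wt_mono r hgi (powersetCard.ofFinEmbEquiv.symm s).injective hg).trans le_add_self
            refine ⟨monomial (m + wt r (powersetCard.ofFinEmbEquiv.symm s) - wt r g) (1 : R) •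
              eta b q g, ?_⟩
            rw [map_smul, map_eta, smul_smul, monomial_mul, one_mul, tsub_add_cancel_of_le hle]
          · simp only [Function.Injective, not_forall] at hgi
            obtain ⟨i, j, hij, hne⟩ := hgi
            refine ⟨0, ?_⟩
            rw [eta, (ιMulti P q).map_eq_zero_of_eq (b ∘ g) (congrArg b hij) hne, smul_zero,
              map_zero]
        | zero => exact ⟨0, by simp⟩
        | add x y _ _ hx hy =>
          obtain ⟨u, hu⟩ := hx
          obtain ⟨v, hv⟩ := hy
          exact ⟨u + v, by rw [smul_add, hu, hv, map_add]⟩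
        | smul c x _ hx =>
          obtain ⟨u, hu⟩ := hx
          exact ⟨c • u, by rw [smul_comm, hu, LinearMap.map_smul_of_tower]⟩
      rw [LinearMap.smul_apply, exteriorPower_eq_eta]
      exact hmem _ (Submodule.smul_mem _ _ (con_eta_mem b _ q _))
    · rw [dif_neg h]
      exact ⟨0, by simp⟩
  | zero => exact ⟨0, by simp⟩
  | add x y _ _ hx hy =>
    obtain ⟨u, hu⟩ := hx
    obtain ⟨v, hv⟩ := hy
    exact ⟨u + v, by rw [map_add, map_add, hu, hv, map_add]⟩
  | smul c x _ hx =>
    obtain ⟨u, hu⟩ := hx
    exact ⟨c • u, by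
      rw [LinearMap.map_smul_of_tower, map_smul, hu, LinearMap.map_smul_of_tower]⟩

end Groth.Agent.Lib.Cartier45
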