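import Mathlib.LinearAlgebra.ExteriorPower.Basis
import Mathlib.LinearAlgebra.CliffordAlgebra.Contraction
import Mathlib.RingTheory.AlgebraTower
import Mathlib.Algebra.MvPolynomial.Basic
import Mathlib.RingTheory.MvPolynomial.Basic

/-!
# Monomial-wise operators on exterior powers of a free module over a polynomial ring
-/

set_option autoImplicit false
set_option maxSynthPendingDepth 3

open exteriorPower MvPolynomial Module Set

namespace Groth.Agent.Lib.Cartier45

universe u v

section General

variable {P : Type v} [CommRing P] {L : Type u} [AddCommGroup L] [Module P L]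

/-- Left multiplication by a vector. -/
noncomputable def mulL (q : ℕ) (x : L) : ↥(⋀[P]^q L) →ₗ[P] ↥(⋀[P]^(q + 1) L) :=
  ((LinearMap.mulLeft P (ExteriorAlgebra.ι P x)).comp (⋀[P]^q L).subtype).codRestrict _ fun y => by
    simp only [LinearMap.coe_comp, Submodule.coe_subtype, Function.comp_apply,
      LinearMap.mulLeft_apply, ExteriorAlgebra.exteriorPower]
    rw [pow_succ']
    exact Submodule.mul_mem_mul (LinearMap.mem_range_self _ x) y.2

theorem coe_mulL (q : ℕ) (x : L) (y : ↥(⋀[P]^q L)) :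
    (mulL q x y : ExteriorAlgebra P L) = ExteriorAlgebra.ι P x * y := rfl

theorem mulL_ιMulti (q : ℕ) (x : L) (f : Fin q → L) :
    mulL q x (ιMulti P q f) = ιMulti P (q + 1) (Fin.cons x f) := by
  apply Subtype.ext
  rw [coe_mulL, ιMulti_apply_coe, ιMulti_apply_coe, ExteriorAlgebra.ιMulti_succ_apply, Fin.cons_zero]
  congr 1

theorem map_mulL {N : Type u} [AddCommGroup N] [Module P N] (φ : L →ₗ[P] N) (q : ℕ) (x : L)
    (y : ↥(⋀[P]^q L)) : map (q + 1) φ (mulL q x y) = mulL q (φ x) (map q φ y) := by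
  have h : (map (q + 1) φ).comp (mulL q x) = (mulL q (φ x)).comp (map q φ) := by
    refine linearMap_ext ?_
    ext f
    simp only [LinearMap.compAlternatingMap_apply, LinearMap.coe_comp, Function.comp_apply,
      mulL_ιMulti, map_apply_ιMulti, Fin.comp_cons]
  exact LinearMap.congr_fun h y

theorem contract_mem (φ : Dual P L) : ∀ (q : ℕ) (f : Fin (q + 1) → L),
    CliffordAlgebra.contractLeft φ (ExteriorAlgebra.ιMulti P (q + 1) f) ∈ ⋀[P]^q L
  | 0, f => by
    rw [ExteriorAlgebra.ιMulti_succ_apply, ExteriorAlgebra.ιMulti_zero_apply, mul_one]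
    change CliffordAlgebra.contractLeft φ (CliffordAlgebra.ι 0 (f 0)) ∈ _
    rw [CliffordAlgebra.contractLeft_ι]
    simp only [ExteriorAlgebra.exteriorPower, pow_zero]
    exact Submodule.mem_one.2 ⟨_, rfl⟩
  | q + 1, f => by
    rw [ExteriorAlgebra.ιMulti_succ_apply]
    change CliffordAlgebra.contractLeft φ (CliffordAlgebra.ι 0 (f 0) * _) ∈ _
    rw [CliffordAlgebra.contractLeft_ι_mul]
    refine Submodule.sub_mem _ (Submodule.smul_mem _ _
      (ExteriorAlgebra.ιMulti_range P _ (Set.mem_range_self _))) ?_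
    have h := contract_mem φ q (Matrix.vecTail f)
    simp only [ExteriorAlgebra.exteriorPower] at h ⊢
    rw [pow_succ']
    exact Submodule.mul_mem_mul (LinearMap.mem_range_self _ _) h

/-- Contraction with a linear form. -/
noncomputable def con (q : ℕ) (φ : Dual P L) : ↥(⋀[P]^(q + 1) L) →ₗ[P] ↥(⋀[P]^q L) :=
  ((CliffordAlgebra.contractLeft (Q := (0 : QuadraticForm P L)) φ).comp
    (⋀[P]^(q + 1) L).subtype).codRestrict _ fun y => by
    have : ⋀[P]^(q + 1) L ≤ (⋀[P]^q L).comap
        (CliffordAlgebra.contractLeft (Q := (0 : QuadraticForm P L)) φ) := by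
      rw [← ExteriorAlgebra.ιMulti_span_fixedDegree, Submodule.span_le]
      rintro _ ⟨f, rfl⟩
      exact contract_mem φ q f
    exact this y.2

theorem coe_con (q : ℕ) (φ : Dual P L) (y : ↥(⋀[P]^(q + 1) L)) :
    (con q φ y : ExteriorAlgebra P L) =
      CliffordAlgebra.contractLeft (Q := (0 : QuadraticForm P L)) φ (y : ExteriorAlgebra P L) := rfl

theorem con_mulL_zero (φ : Dual P L) (x : L) (y : ↥(⋀[P]^0 L)) :
    con 0 φ (mulL 0 x y) = φ x • y := by
  apply Subtype.ext
  rw [coe_con, coe_mulL]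
  have hy := y.2
  simp only [ExteriorAlgebra.exteriorPower, pow_zero] at hy
  obtain ⟨c, hc⟩ := Submodule.mem_one.1 hy
  change CliffordAlgebra.contractLeft φ (CliffordAlgebra.ι 0 x * _) = _
  rw [CliffordAlgebra.contractLeft_ι_mul, ← hc]
  erw [CliffordAlgebra.contractLeft_algebraMap]
  rw [mul_zero, sub_zero, Submodule.coe_smul, ← hc]

theorem mulL_con_add (q : ℕ) (φ : Dual P L) (x : L) (y : ↥(⋀[P]^(q + 1) L)) :
    mulL q x (con q φ y) + con (q + 1) φ (mulL (q + 1) x y) = φ x • y := by
  apply Subtype.ext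
  rw [Submodule.coe_add, coe_mulL, coe_con, coe_con, coe_mulL, Submodule.coe_smul]
  change CliffordAlgebra.ι 0 x * _ +
    CliffordAlgebra.contractLeft φ (CliffordAlgebra.ι 0 x * _) = _
  rw [CliffordAlgebra.contractLeft_ι_mul, add_sub_cancel]

theorem con_ιMulti_succ (q : ℕ) (φ : Dual P L) (f : Fin (q + 2) → L) :
    con (q + 1) φ (ιMulti P (q + 2) f) =
      φ (f 0) • ιMulti P (q + 1) (Matrix.vecTail f) -
        mulL q (f 0) (con q φ (ιMulti P (q + 1) (Matrix.vecTail f))) := by
  apply Subtype.ext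
  rw [coe_con, ιMulti_apply_coe, ExteriorAlgebra.ιMulti_succ_apply, Submodule.coe_sub,
    Submodule.coe_smul, coe_mulL, coe_con, ιMulti_apply_coe]
  exact CliffordAlgebra.contractLeft_ι_mul (Q := (0 : QuadraticForm P L)) _ _ _

theorem con_ιMulti_one (φ : Dual P L) (f : Fin 1 → L) :
    con 0 φ (ιMulti P 1 f) = φ (f 0) • ιMulti P 0 Fin.elim0 := by
  apply Subtype.ext
  rw [coe_con, ιMulti_apply_coe, ExteriorAlgebra.ιMulti_succ_apply,
    ExteriorAlgebra.ιMulti_zero_apply, mul_one, Submodule.coe_smul, ιMulti_apply_coe,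
    ExteriorAlgebra.ιMulti_zero_apply, Algebra.smul_def, mul_one]
  exact CliffordAlgebra.contractLeft_ι (Q := (0 : QuadraticForm P L)) _ _

end General

variable {n : ℕ} {R : Type u} [CommRing R] {L : Type u} [AddCommGroup L]
  [Module (MvPolynomial (Fin n) R) L] [Module R L] [IsScalarTower R (MvPolynomial (Fin n) R) L]

local notation "P" => MvPolynomial (Fin n) R

variable (b : Basis (Fin n) (MvPolynomial (Fin n) R) L)

/-- The wedge of a sequence of basis vectors. -/
noncomputable def eta (q : ℕ) (f : Fin q → Fin n) : ↥(⋀[P]^q L) := ιMulti P q (b ∘ f)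

/-- The `R`-span of the wedges of basis vectors. -/
noncomputable def constSpan (q : ℕ) : Submodule R ↥(⋀[P]^q L) :=
  Submodule.span R (Set.range fun s : powersetCard (Fin n) q => b.exteriorPower q s)

theorem exteriorPower_eq_eta (q : ℕ) (s : powersetCard (Fin n) q) :
    b.exteriorPower q s = eta b q (powersetCard.ofFinEmbEquiv.symm s) := by
  rw [basis_apply]; rfl

theorem exists_perm (q : ℕ) (f : Fin q → Fin n) (hf : Function.Injective f) :
    ∃ (s : powersetCard (Fin n) q) (σ : Equiv.Perm (Fin q)),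
      f = (powersetCard.ofFinEmbEquiv.symm s) ∘ σ := by
  classical
  have hcard : (Finset.univ.image f).card = q := by
    rw [Finset.card_image_of_injective _ hf, Finset.card_univ, Fintype.card_fin]
  let s : powersetCard (Fin n) q := powersetCard.ofCard hcard
  have hmem : ∀ k, ∃ j, powersetCard.ofFinEmbEquiv.symm s j = f k := fun k => by
    refine (powersetCard.mem_range_ofFinEmbEquiv_symm_iff_mem s (f k)).2 ?_
    exact Finset.mem_image.2 ⟨k, Finset.mem_univ _, rfl⟩
  choose σ hσ using hmem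
  have hσi : Function.Injective σ := fun a c h => hf (by rw [← hσ a, ← hσ c, h])
  exact ⟨s, Equiv.ofBijective σ hσi.bijective_of_finite, funext fun k => (hσ k).symm⟩

theorem eta_mem_constSpan (q : ℕ) (f : Fin q → Fin n) : eta b q f ∈ constSpan b q := by
  classical
  by_cases hf : Function.Injective f
  · obtain ⟨s, σ, rfl⟩ := exists_perm q f hf
    have h : eta b q ((powersetCard.ofFinEmbEquiv.symm s) ∘ σ) =
        Equiv.Perm.sign σ • b.exteriorPower q s := by
      rw [exteriorPower_eq_eta]
      exact (ιMulti P q).map_perm (b ∘ (powersetCard.ofFinEmbEquiv.symm s)) σ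
    rw [h]
    rcases Int.units_eq_one_or (Equiv.Perm.sign σ) with hs | hs <;> rw [hs]
    · rw [one_smul]
      exact Submodule.subset_span ⟨s, rfl⟩
    · rw [Units.neg_smul, one_smul]
      exact Submodule.neg_mem _ (Submodule.subset_span ⟨s, rfl⟩)
  · simp only [Function.Injective, not_forall] at hf
    obtain ⟨i, j, hij, hne⟩ := hf
    rw [eta, (ιMulti P q).map_eq_zero_of_eq (b ∘ f) (congrArg b hij) hne]
    exact Submodule.zero_mem _

/-- A monomial-wise operator. -/
noncomputable def op {q q' : ℕ} (f : (Fin n →₀ ℕ) → ↥(⋀[P]^q L) →ₗ[P] ↥(⋀[P]^q' L)) :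
    ↥(⋀[P]^q L) →ₗ[R] ↥(⋀[P]^q' L) :=
  ((MvPolynomial.basisMonomials (Fin n) R).smulTower (b.exteriorPower q)).constr R
    fun x => monomial x.1 (1 : R) • f x.1 (b.exteriorPower q x.2)

theorem op_monomial {q q' : ℕ} (f : (Fin n →₀ ℕ) → ↥(⋀[P]^q L) →ₗ[P] ↥(⋀[P]^q' L))
    (E : Fin n →₀ ℕ) {x : ↥(⋀[P]^q L)} (hx : x ∈ constSpan b q) :
    op b f (monomial E (1 : R) • x) = monomial E (1 : R) • f E x := by
  induction hx using Submodule.span_induction with
  | mem x hx =>
    obtain ⟨s, rfl⟩ := hx
    have h : monomial E (1 : R) • b.exteriorPower q s =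
        ((MvPolynomial.basisMonomials (Fin n) R).smulTower (b.exteriorPower q)) (E, s) := by
      rw [Basis.smulTower_apply, coe_basisMonomials]
    rw [h, op, Basis.constr_basis]
  | zero => simp
  | add x y _ _ hx hy => rw [smul_add, map_add, hx, hy, map_add, smul_add]
  | smul c x _ hx =>
    rw [smul_comm, map_smul, hx, LinearMap.map_smul_of_tower, smul_comm]

theorem linearMap_ext_monomial {N : Type u} [AddCommGroup N] [Module R N] {q : ℕ}
    {g g' : ↥(⋀[P]^q L) →ₗ[R] N}
    (h : ∀ (m : Fin n →₀ ℕ) (s : powersetCard (Fin n) q),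
      g (monomial m (1 : R) • b.exteriorPower q s) = g' (monomial m (1 : R) • b.exteriorPower q s)) :
    g = g' :=
  ((MvPolynomial.basisMonomials (Fin n) R).smulTower (b.exteriorPower q)).ext fun x => by
    rw [Basis.smulTower_apply, coe_basisMonomials]
    exact h x.1 x.2

end Groth.Agent.Lib.Cartier45
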